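import Cfsg.Agent.Lib.Parabolic.UFourTwo.Data
import Cfsg.Agent.Lib.ClassicalForms.Unitary.Simple
import Cfsg.Agent.Lib.ClassicalForms.Unitary.Center
import Cfsg.Agent.Lib.ClassicalForms.Unitary.Card
import Cfsg.Agent.Lib.ClassicalLinear.SympCard

/-!
# `PSU_4(2) ≅ PSp_4(3)`

Both groups act on 40 points: the anisotropic points of the unitary space and the points of the
symplectic space. Every unitary transvection induces the permutation of some symplectic matrix.
-/

set_option autoImplicit false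
set_option linter.unusedSectionVars false

open Matrix
open CfsgLib.ClassicalLinear

namespace CfsgLib.Parabolic.UFourTwo

universe u v

/-! ### Coordinates -/

theorem get_lt (x i : ℕ) : get x i < 4 := by
  have := Nat.and_le_right (n := x >>> (2 * i)) (m := 3)
  unfold get; omega

theorem mul4_lt (a b : ℕ) : mul4 a b < 4 := by
  have := Nat.and_le_right (n := mulTab >>> (2 * (4 * a + b))) (m := 3)
  unfold mul4; omega

theorem get_xor (x y i : ℕ) : get (x ^^^ y) i = get x i ^^^ get y i := by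
  unfold get; rw [Nat.shiftRight_xor_distrib, Nat.and_xor_distrib_right]

theorem get_code4 {a b c d : ℕ} (ha : a < 4) (hb : b < 4) (hc : c < 4) (hd : d < 4) :
    get (code4 a b c d) 0 = a ∧ get (code4 a b c d) 1 = b ∧ get (code4 a b c d) 2 = c ∧
      get (code4 a b c d) 3 = d := by
  have h3 : ∀ n : ℕ, n &&& 3 = n % 4 := fun n => Nat.and_two_pow_sub_one_eq_mod n 2
  simp only [get, code4, h3, Nat.shiftRight_eq_div_pow]
  norm_num
  omega

theorem code4_get {x : ℕ} (hx : x < 256) : code4 (get x 0) (get x 1) (get x 2) (get x 3) = x := by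
  have h3 : ∀ n : ℕ, n &&& 3 = n % 4 := fun n => Nat.and_two_pow_sub_one_eq_mod n 2
  simp only [get, code4, h3, Nat.shiftRight_eq_div_pow]
  norm_num
  omega

theorem code4_lt {a b c d : ℕ} (ha : a < 4) (hb : b < 4) (hc : c < 4) (hd : d < 4) : code4 a b c d < 256 := by
  unfold code4; omega

theorem smul4_lt (l x : ℕ) : smul4 l x < 256 :=
  code4_lt (Nat.lt_succ_of_le Nat.and_le_right) (Nat.lt_succ_of_le Nat.and_le_right)
    (Nat.lt_succ_of_le Nat.and_le_right) (Nat.lt_succ_of_le Nat.and_le_right)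

theorem rep_lt (j : ℕ) : rep j < 256 := by
  have := Nat.and_le_right (n := repTab >>> (8 * j)) (m := 255)
  unfold rep; omega

theorem lam_lt (x : ℕ) : lam x < 4 := by
  have := Nat.and_le_right (n := lamTab >>> (2 * x)) (m := 3)
  unfold lam; omega

theorem vec_spec {x : ℕ} (hx : x < 256) (h0 : x ≠ 0) :
    lam x ≠ 0 ∧ idx x < 85 ∧ smul4 (lam x) (rep (idx x)) = x ∧ (idx x < 40 ↔ herm4 x x ≠ 0) := by
  have h := List.all_eq_true.1 check_vec x (List.mem_range.2 hx)
  simp only [Bool.or_eq_true, beq_iff_eq, h0, false_or, Bool.and_eq_true, bne_iff_ne, Nat.blt_eq] at h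
  refine ⟨h.1.1.1, h.1.1.2, h.1.2, ?_⟩
  rw [← Nat.blt_eq, h.2, bne_iff_ne]

theorem scale_spec {x l : ℕ} (hx : x < 256) (h0 : x ≠ 0) (hl : l < 4) (hl0 : l ≠ 0) :
    idx (smul4 l x) = idx x := by
  have h := List.all_eq_true.1 check_scale x (List.mem_range.2 hx)
  simp [h0] at h
  interval_cases l
  · exact absurd rfl hl0
  · exact h.1.1
  · exact h.1.2
  · exact h.2

theorem rep_spec {j : ℕ} (hj : j < 85) : idx (rep j) = j ∧ rep j ≠ 0 := by
  have h := List.all_eq_true.1 check_rep j (List.mem_range.2 hj)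
  simpa using h

theorem getK_lt (x i : ℕ) : getK x i < 3 := Nat.mod_lt _ (by norm_num)

theorem getK_codeK {a b c d : ℕ} (ha : a < 3) (hb : b < 3) (hc : c < 3) (hd : d < 3) :
    getK (codeK a b c d) 0 = a ∧ getK (codeK a b c d) 1 = b ∧ getK (codeK a b c d) 2 = c ∧
      getK (codeK a b c d) 3 = d := by
  simp only [getK, codeK]
  norm_num
  omega

theorem codeK_getK {x : ℕ} (hx : x < 81) : codeK (getK x 0) (getK x 1) (getK x 2) (getK x 3) = x := by
  simp only [getK, codeK]
  norm_num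
  omega

theorem codeK_lt {a b c d : ℕ} (ha : a < 3) (hb : b < 3) (hc : c < 3) (hd : d < 3) : codeK a b c d < 81 := by
  unfold codeK; omega

theorem vecK_spec {x : ℕ} (hx : x < 81) (h0 : x ≠ 0) :
    sgn x % 3 ≠ 0 ∧ idk x < 40 ∧ smulK (sgn x) (repk (idk x)) = x ∧
      idk (smulK 1 x) = idk x ∧ idk (smulK 2 x) = idk x := by
  have h := List.all_eq_true.1 check_vecK x (List.mem_range.2 hx)
  simp [h0, Nat.blt_eq] at h
  refine ⟨?_, h.1.1.1.2, h.1.1.2, h.1.2, h.2⟩
  intro hs
  have hlt : getK x 0 = 0 ∧ getK x 1 = 0 ∧ getK x 2 = 0 ∧ getK x 3 = 0 := by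
    have e := h.1.1.2
    have z : ∀ n : ℕ, sgn x * n % 3 = 0 := fun n => by rw [Nat.mul_mod, hs, zero_mul, Nat.zero_mod]
    simp only [smulK, z] at e
    rw [← e]; decide
  exact h0 (by rw [← codeK_getK hx, hlt.1, hlt.2.1, hlt.2.2.1, hlt.2.2.2]; rfl)

theorem repK_spec {j : ℕ} (hj : j < 40) : idk (repk j) = j ∧ repk j ≠ 0 ∧ repk j < 81 := by
  have h := List.all_eq_true.1 check_repK j (List.mem_range.2 hj)
  simp [Nat.blt_eq] at h
  exact ⟨h.1.1, h.1.2, h.2⟩

theorem perm_spec {k i : ℕ} (hk : k < 45) (hi : i < 40) : tPerm k i = idk (mulK k (repk i)) := by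
  have h := List.all_eq_true.1 (List.all_eq_true.1 check_perm k (List.mem_range.2 hk)) i (List.mem_range.2 hi)
  simpa using h

theorem gram_spec {k i j : ℕ} (hk : k < 45) (hi : i < 4) (hj : j < 4) : gram k i j = stdGram i j := by
  have h := List.all_eq_true.1 (List.all_eq_true.1
    (List.all_eq_true.1 check_sp k (List.mem_range.2 hk)) i (List.mem_range.2 hi)) j (List.mem_range.2 hj)
  simpa using h

/-! ### The field of four elements -/

section Unitary

variable {F : Type u} [Field F] [Fintype F]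

/-- A generator of the multiplicative group with `ω² = ω + 1`. -/
structure Omega4 (F : Type u) [Field F] where
  /-- the element -/
  w : F
  two : (2 : F) = 0
  sq : w ^ 2 = w + 1

theorem exists_omega4 (hF : Fintype.card F = 4) : Nonempty (Omega4 F) := by
  classical
  have h2 : (2 : F) = 0 := by
    have h4 : ((4 : ℕ) : F) = 0 := by rw [← hF]; exact Nat.cast_card_eq_zero F
    have : (2 : F) * 2 = 0 := by push_cast at h4; linear_combination h4
    simpa using this
  obtain ⟨w, -, hw⟩ := Finset.exists_mem_notMem_of_card_lt_card (s := ({0, 1} : Finset F)) (t := Finset.univ)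
    (lt_of_le_of_lt Finset.card_le_two (by rw [Finset.card_univ, hF]; norm_num))
  simp only [Finset.mem_insert, Finset.mem_singleton, not_or] at hw
  have hp : w ^ 3 = 1 := by
    have := FiniteField.pow_card_sub_one_eq_one w hw.1
    rwa [hF] at this
  have h3 : (w - 1) * (w ^ 2 + w + 1) = 0 := by linear_combination hp
  have h4 := (mul_eq_zero.1 h3).resolve_left (sub_ne_zero.2 hw.2)
  exact ⟨⟨w, h2, by linear_combination h4 - (w + 1) * h2⟩⟩

theorem su_aniso (s : Cfsg.SU 4 F 2) (v : Fin 4 → F) :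
    Cfsg.hermForm 4 F 2 ((s.1.1 : Matrix (Fin 4) (Fin 4) F) *ᵥ v) ((s.1.1 : Matrix (Fin 4) (Fin 4) F) *ᵥ v) =
      Cfsg.hermForm 4 F 2 v v := s.2 v v

variable (o : Omega4 F)

/-- The field element with a given code. -/
def Omega4.val (n : ℕ) : F := if n = 0 then 0 else if n = 1 then 1 else if n = 2 then o.w else o.w + 1

theorem Omega4.val_zero : o.val 0 = 0 := rfl

theorem Omega4.val_mul {a b : ℕ} (ha : a < 4) (hb : b < 4) : o.val (mul4 a b) = o.val a * o.val b := by
  have h1 := o.sq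
  have h2 := o.two
  have t22 : mul4 2 2 = 3 := by decide
  have t23 : mul4 2 3 = 1 := by decide
  have t32 : mul4 3 2 = 1 := by decide
  have t33 : mul4 3 3 = 2 := by decide
  have t0 : ∀ b < 4, mul4 0 b = 0 ∧ mul4 b 0 = 0 ∧ mul4 1 b = b ∧ mul4 b 1 = b := by decide
  interval_cases a <;> interval_cases b <;>
    simp [Omega4.val, t22, t23, t32, t33, (t0 0 (by norm_num)), (t0 1 (by norm_num)), (t0 2 (by norm_num)),
      (t0 3 (by norm_num))] <;> grind

theorem Omega4.val_xor {a b : ℕ} (ha : a < 4) (hb : b < 4) : o.val (a ^^^ b) = o.val a + o.val b := by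
  have h2 := o.two
  interval_cases a <;> interval_cases b <;> simp [Omega4.val] <;> grind

theorem Omega4.val_injective : ∀ a < 4, ∀ b < 4, o.val a = o.val b → a = b := by
  have h1 := o.sq
  have h2 := o.two
  intro a ha b hb h
  interval_cases a <;> interval_cases b <;> simp_all [Omega4.val] <;> grind

theorem Omega4.exists_code (hF : Fintype.card F = 4) (x : F) : ∃ a, a < 4 ∧ o.val a = x := by
  let g : Fin 4 → F := fun a => o.val a.1
  have hb : Function.Bijective g := (Fintype.bijective_iff_injective_and_card g).2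
    ⟨fun a b h => Fin.ext (o.val_injective _ a.2 _ b.2 h), by rw [Fintype.card_fin, hF]⟩
  obtain ⟨a, ha⟩ := hb.2 x
  exact ⟨a.1, a.2, ha⟩

/-- The vector with a given code. -/
def Omega4.vec (x : ℕ) : Fin 4 → F := fun i => o.val (get x i.1)

theorem Omega4.vec_xor (x y : ℕ) : o.vec (x ^^^ y) = o.vec x + o.vec y :=
  funext fun i => by simp only [Omega4.vec, Pi.add_apply, get_xor, o.val_xor (get_lt _ _) (get_lt _ _)]

theorem Omega4.vec_smul {l : ℕ} (hl : l < 4) (x : ℕ) : o.vec (smul4 l x) = o.val l • o.vec x := by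
  obtain ⟨e0, e1, e2, e3⟩ := get_code4 (mul4_lt l (get x 0)) (mul4_lt l (get x 1)) (mul4_lt l (get x 2))
    (mul4_lt l (get x 3))
  funext i
  fin_cases i <;> simp [Omega4.vec, smul4, e0, e1, e2, e3, o.val_mul hl (get_lt _ _)]

theorem Omega4.herm_vec (x y : ℕ) : Cfsg.hermForm 4 F 2 (o.vec x) (o.vec y) = o.val (herm4 x y) := by
  have hlt : ∀ i, term4 x y i < 4 := fun i => mul4_lt _ _
  have hterm : ∀ i : Fin 4, o.vec x i * o.vec y i ^ 2 = o.val (term4 x y i.1) := fun i => by
    rw [term4, o.val_mul (get_lt _ _) (mul4_lt _ _), o.val_mul (get_lt _ _) (get_lt _ _), pow_two]; rfl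
  have hx : ∀ a b : ℕ, a < 4 → b < 4 → a ^^^ b < 4 := fun a b ha hb =>
    Nat.xor_lt_two_pow (n := 2) ha hb
  rw [herm4, o.val_xor (hx _ _ (hx _ _ (hlt 0) (hlt 1)) (hlt 2)) (hlt 3),
    o.val_xor (hx _ _ (hlt 0) (hlt 1)) (hlt 2), o.val_xor (hlt 0) (hlt 1)]
  simp only [Cfsg.hermForm, hterm, Fin.sum_univ_four]
  rfl

variable (hF : Fintype.card F = 4)
include hF

/-- The code of a vector. -/
noncomputable def Omega4.code (v : Fin 4 → F) : ℕ :=
  code4 (o.exists_code hF (v 0)).choose (o.exists_code hF (v 1)).choose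
    (o.exists_code hF (v 2)).choose (o.exists_code hF (v 3)).choose

theorem Omega4.code_lt (v : Fin 4 → F) : o.code hF v < 256 :=
  code4_lt (o.exists_code hF (v 0)).choose_spec.1 (o.exists_code hF (v 1)).choose_spec.1
    (o.exists_code hF (v 2)).choose_spec.1 (o.exists_code hF (v 3)).choose_spec.1

theorem Omega4.vec_code (v : Fin 4 → F) : o.vec (o.code hF v) = v := by
  obtain ⟨e0, e1, e2, e3⟩ := get_code4 (o.exists_code hF (v 0)).choose_spec.1 (o.exists_code hF (v 1)).choose_spec.1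
    (o.exists_code hF (v 2)).choose_spec.1 (o.exists_code hF (v 3)).choose_spec.1
  funext i
  fin_cases i <;> simp only [Omega4.vec, Omega4.code, Fin.zero_eta, Fin.mk_one, Fin.reduceFinMk, Fin.val_zero, Fin.val_one,
    Fin.val_two, Fin.isValue]
  · rw [e0]; exact (o.exists_code hF (v 0)).choose_spec.2
  · rw [e1]; exact (o.exists_code hF (v 1)).choose_spec.2
  · rw [e2]; exact (o.exists_code hF (v 2)).choose_spec.2
  · rw [e3]; exact (o.exists_code hF (v 3)).choose_spec.2

theorem Omega4.code_vec {x : ℕ} (hx : x < 256) : o.code hF (o.vec x) = x := by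
  have h : ∀ i : Fin 4, (o.exists_code hF (o.vec x i)).choose = get x i.1 := fun i =>
    o.val_injective _ (o.exists_code hF (o.vec x i)).choose_spec.1 _ (get_lt _ _)
      (o.exists_code hF (o.vec x i)).choose_spec.2
  rw [Omega4.code, h 0, h 1, h 2, h 3]
  exact code4_get hx

theorem Omega4.code_ne_zero {v : Fin 4 → F} (hv : v ≠ 0) : o.code hF v ≠ 0 := fun h => hv <| by
  rw [← o.vec_code hF v, h]
  funext i
  simp [Omega4.vec, get, o.val_zero]

/-- The number of the point spanned by a vector. -/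
noncomputable def Omega4.point (v : Fin 4 → F) : ℕ := idx (o.code hF v)

theorem Omega4.point_smul {v : Fin 4 → F} (hv : v ≠ 0) {c : F} (hc : c ≠ 0) :
    o.point hF (c • v) = o.point hF v := by
  obtain ⟨l, hl, rfl⟩ := o.exists_code hF c
  have hl0 : l ≠ 0 := fun h => hc (by rw [h, o.val_zero])
  have h1 : o.code hF (o.val l • v) = smul4 l (o.code hF v) := by
    conv_lhs => rw [← o.vec_code hF v, ← o.vec_smul hl]
    exact o.code_vec hF (code4_lt (mul4_lt _ _) (mul4_lt _ _) (mul4_lt _ _) (mul4_lt _ _))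
  rw [Omega4.point, h1, scale_spec (o.code_lt hF v) (o.code_ne_zero hF hv) hl hl0]
  rfl

theorem Omega4.point_spec {v : Fin 4 → F} (hv : v ≠ 0) :
    o.point hF v < 85 ∧ (∃ c : F, c ≠ 0 ∧ v = c • o.vec (rep (o.point hF v))) ∧
      (o.point hF v < 40 ↔ Cfsg.hermForm 4 F 2 v v ≠ 0) := by
  obtain ⟨h1, h2, h3, h4⟩ := vec_spec (o.code_lt hF v) (o.code_ne_zero hF hv)
  refine ⟨h2, ⟨o.val (lam (o.code hF v)), fun h => h1 ?_, ?_⟩, h4.trans ?_⟩
  · exact o.val_injective _ (lam_lt _) 0 (by norm_num) (h.trans o.val_zero.symm)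
  · rw [← o.vec_smul (lam_lt _)]
    show v = o.vec (smul4 _ (rep (idx (o.code hF v))))
    rw [h3, o.vec_code]
  · have hlt : herm4 (o.code hF v) (o.code hF v) < 4 :=
      Nat.xor_lt_two_pow (n := 2) (Nat.xor_lt_two_pow (n := 2) (Nat.xor_lt_two_pow (n := 2)
        (mul4_lt _ _) (mul4_lt _ _)) (mul4_lt _ _)) (mul4_lt _ _)
    conv_rhs => rw [← o.vec_code hF v, o.herm_vec]
    rw [not_iff_not]
    exact ⟨fun h => by rw [h, o.val_zero],
      fun h => o.val_injective _ hlt 0 (by norm_num) (h.trans o.val_zero.symm)⟩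

theorem Omega4.rep_ne_zero {j : ℕ} (hj : j < 85) : o.vec (rep j) ≠ 0 := fun h => (rep_spec hj).2 <| by
  rw [← o.code_vec hF (rep_lt j), h]
  have h0 : (o.vec 0 : Fin 4 → F) = 0 := funext fun i => by simp [Omega4.vec, get, o.val_zero]
  rw [← h0]; exact o.code_vec hF (by norm_num)

theorem Omega4.point_rep {j : ℕ} (hj : j < 85) : o.point hF (o.vec (rep j)) = j := by
  rw [Omega4.point, o.code_vec hF (rep_lt j), (rep_spec hj).1]

theorem Omega4.rep_aniso {j : ℕ} (hj : j < 40) :
    Cfsg.hermForm 4 F 2 (o.vec (rep j)) (o.vec (rep j)) ≠ 0 := by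
  refine (o.point_spec hF (o.rep_ne_zero hF (by omega))).2.2.1 ?_
  rw [o.point_rep hF (by omega)]; exact hj

/-- The action of the unitary group on the anisotropic points. -/
noncomputable def Omega4.act (s : Cfsg.SU 4 F 2) (i : Fin 40) : Fin 40 :=
  ⟨o.point hF ((s.1.1 : Matrix (Fin 4) (Fin 4) F) *ᵥ o.vec (rep i)) % 40, Nat.mod_lt _ (by norm_num)⟩

theorem Omega4.act_val (s : Cfsg.SU 4 F 2) (i : Fin 40) :
    ((o.act hF s i : Fin 40) : ℕ) = o.point hF ((s.1.1 : Matrix (Fin 4) (Fin 4) F) *ᵥ o.vec (rep i)) ∧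
    o.point hF ((s.1.1 : Matrix (Fin 4) (Fin 4) F) *ᵥ o.vec (rep i)) < 40 := by
  have hne := o.rep_aniso hF i.2
  rw [← su_aniso s] at hne
  have hv : (s.1.1 : Matrix (Fin 4) (Fin 4) F) *ᵥ o.vec (rep i) ≠ 0 := fun h => hne (by
    rw [h]; simp [Cfsg.hermForm])
  have := (o.point_spec hF hv).2.2.2 hne
  exact ⟨Nat.mod_eq_of_lt this, this⟩

theorem Omega4.act_mul (s t : Cfsg.SU 4 F 2) (i : Fin 40) :
    o.act hF (s * t) i = o.act hF s (o.act hF t i) := by
  obtain ⟨h1, h2⟩ := o.act_val hF t i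
  refine Fin.ext ?_
  rw [(o.act_val hF _ _).1, (o.act_val hF _ _).1, h1]
  set v := (t.1.1 : Matrix (Fin 4) (Fin 4) F) *ᵥ o.vec (rep i) with hv
  have hne := o.rep_aniso hF i.2
  rw [← su_aniso t, ← hv] at hne
  have hv0 : v ≠ 0 := fun h => hne (by rw [h]; simp [Cfsg.hermForm])
  obtain ⟨c, hc, hcv⟩ := (o.point_spec hF hv0).2.1
  have e : ((s * t : Cfsg.SU 4 F 2).1.1 : Matrix (Fin 4) (Fin 4) F) *ᵥ o.vec (rep i) =
      (s.1.1 : Matrix (Fin 4) (Fin 4) F) *ᵥ v := by
    rw [hv, Matrix.mulVec_mulVec]; rfl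
  rw [e]
  conv_lhs => rw [hcv, Matrix.mulVec_smul]
  refine o.point_smul hF (fun h => ?_) hc
  have h3 := o.rep_aniso hF h2
  rw [← su_aniso s, h] at h3
  exact h3 (by simp [Cfsg.hermForm])

theorem Omega4.act_one (i : Fin 40) : o.act hF (1 : Cfsg.SU 4 F 2) i = i := by
  refine Fin.ext ?_
  rw [(o.act_val hF _ _).1]
  show o.point hF ((1 : Matrix (Fin 4) (Fin 4) F) *ᵥ o.vec (rep i)) = i
  rw [Matrix.one_mulVec, o.point_rep hF (by omega)]

/-- The permutation representation of `SU_4(2)`. -/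
noncomputable def Omega4.perm : Cfsg.SU 4 F 2 →* Equiv.Perm (Fin 40) :=
  MonoidHom.mk' (fun s => ⟨o.act hF s, o.act hF s⁻¹,
      fun i => by rw [← o.act_mul, inv_mul_cancel, o.act_one],
      fun i => by rw [← o.act_mul, mul_inv_cancel, o.act_one]⟩)
    fun s t => Equiv.ext fun i => o.act_mul hF s t i

/-- Every transvection acts as one of the tabulated permutations, or trivially. -/
theorem Omega4.transvection_perm (A : Cfsg.SU 4 F 2) (v : Fin 4 → F) (c : F)
    (hv : Cfsg.hermForm 4 F 2 v v = 0) (hA : (A.1.1 : Matrix (Fin 4) (Fin 4) F) = Cfsg.unitaryTransvection 4 2 v c) :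
    o.perm hF A = 1 ∨ ∃ k < 45, ∀ i : Fin 40, ((o.perm hF A i : Fin 40) : ℕ) = tPerm k i := by
  have hap : ∀ x, (A.1.1 : Matrix (Fin 4) (Fin 4) F) *ᵥ x = x + (c * Cfsg.hermForm 4 F 2 x v) • v := fun x => by
    rw [hA, Cfsg.unitaryTransvection, Matrix.add_mulVec, Matrix.one_mulVec,
      Matrix.smul_mulVec, Matrix.vecMulVec_mulVec, op_smul_eq_smul, smul_smul]
    simp only [Cfsg.hermForm, dotProduct, mul_comm]
  by_cases h0 : v = 0 ∨ c = 0
  · left
    refine Equiv.ext fun i => Fin.ext ?_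
    show ((o.act hF A i : Fin 40) : ℕ) = _
    rw [(o.act_val hF _ _).1, hap]
    rcases h0 with h | h <;> simp [h, o.point_rep hF (show (i : ℕ) < 85 by omega)]
  simp only [not_or] at h0
  obtain ⟨hv0, hc0⟩ := h0
  right
  obtain ⟨hk, ⟨l, hl, hlv⟩, hiso⟩ := o.point_spec hF hv0
  have hk40 : ¬ o.point hF v < 40 := fun h => hiso.1 h hv
  refine ⟨o.point hF v - 40, by omega, fun i => ?_⟩
  have hk' : 40 + (o.point hF v - 40) = o.point hF v := by omega
  have hl3 : l ^ 3 = 1 := by
    have := FiniteField.pow_card_sub_one_eq_one l hl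
    rwa [hF] at this
  -- the scalar is one, the form being preserved
  have hc1 : c = 1 := by
    obtain ⟨e, he⟩ : ∃ e, v e ≠ 0 := Function.ne_iff.1 hv0
    have he3 : v e ^ 3 = 1 := by
      have := FiniteField.pow_card_sub_one_eq_one (v e) he
      rwa [hF] at this
    obtain ⟨σ⟩ := CfsgLib.ClassicalForms.exists_conj (F := F) (q := 2) (by rw [Nat.card_eq_fintype_card, hF]; rfl)
    have h1 := su_aniso A (Pi.single e 1)
    rw [hap, σ.add_left, σ.add_right, σ.add_right, σ.smul_left, σ.smul_right, σ.smul_left, σ.smul_right] at h1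
    simp only [σ.single_left, σ.single_right, Pi.single_eq_same, hv, map_mul, map_one, σ.invol, mul_zero,
      add_zero] at h1
    simp only [σ.apply] at h1
    have h4 : c ^ 4 = c := by
      have := FiniteField.pow_card c
      rwa [hF] at this
    have h5 : c + c ^ 2 = 0 := by
      have h6 : c ^ 2 * (v e ^ 3) + c * (v e ^ 3) = 0 := by linear_combination h1
      rw [he3] at h6
      linear_combination h6
    have h7 : c * (1 + c) = 0 := by linear_combination h5
    have h8 := (mul_eq_zero.1 h7).resolve_left hc0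
    linear_combination h8 - o.two
  show ((o.act hF A i : Fin 40) : ℕ) = _
  rw [(o.act_val hF _ _).1, hap, hc1, one_mul]
  set u := o.vec (rep (o.point hF v)) with hu
  set x := o.vec (rep i) with hx
  obtain ⟨σ⟩ := CfsgLib.ClassicalForms.exists_conj (F := F) (q := 2) (by rw [Nat.card_eq_fintype_card, hF]; rfl)
  have e : Cfsg.hermForm 4 F 2 x v • v = Cfsg.hermForm 4 F 2 x u • u := by
    rw [hlv, σ.smul_right, smul_smul, σ.apply]
    congr 1
    linear_combination Cfsg.hermForm 4 F 2 x u * hl3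
  have hh : herm4 (rep i) (rep (o.point hF v)) < 4 := Nat.xor_lt_two_pow (n := 2)
    (Nat.xor_lt_two_pow (n := 2) (Nat.xor_lt_two_pow (n := 2) (mul4_lt _ _) (mul4_lt _ _)) (mul4_lt _ _))
    (mul4_lt _ _)
  rw [e, hx, hu, o.herm_vec, ← o.vec_smul hh, ← o.vec_xor, Omega4.point, tPerm, hk',
    o.code_vec hF (x := rep i ^^^ smul4 (herm4 (rep i) (rep (o.point hF v))) (rep (o.point hF v)))
      (Nat.xor_lt_two_pow (n := 8) (rep_lt _) (smul4_lt _ _))]

theorem Omega4.perm_ne_one : ∃ s, o.perm hF s ≠ 1 := by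
  have h2 := o.two
  let M : Matrix (Fin 4) (Fin 4) F := !![0, 1, 0, 0; 1, 0, 0, 0; 0, 0, 1, 0; 0, 0, 0, 1]
  have hdet : M.det = 1 := by
    simp [M, Matrix.det_succ_row_zero, Fin.sum_univ_succ, Fin.succAbove]
    linear_combination -h2
  have hmem : (⟨M, hdet⟩ : Matrix.SpecialLinearGroup (Fin 4) F) ∈ Cfsg.SU 4 F 2 := fun u w => by
    show Cfsg.hermForm 4 F 2 (M *ᵥ u) (M *ᵥ w) = _
    simp [Cfsg.hermForm, M, Matrix.mulVec, dotProduct, Fin.sum_univ_four]
    ring
  refine ⟨⟨_, hmem⟩, fun h => ?_⟩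
  have hne : (o.vec 1 : Fin 4 → F) ≠ 0 := fun h0 => by
    have := congrFun h0 0; simp [Omega4.vec, get, Omega4.val] at this
  obtain ⟨-, ⟨c, hc, hcv⟩, hlt⟩ := o.point_spec hF hne
  have hlt' := hlt.2 (by simp [Cfsg.hermForm, Omega4.vec, get, Omega4.val, Fin.sum_univ_four])
  have h1 := congrArg (fun π : Equiv.Perm (Fin 40) => ((π ⟨_, hlt'⟩ : Fin 40) : ℕ)) h
  change ((o.act hF ⟨_, hmem⟩ ⟨_, hlt'⟩ : Fin 40) : ℕ) = _ at h1
  rw [(o.act_val hF _ _).1] at h1
  simp only [Equiv.Perm.one_apply] at h1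
  have hMne : M *ᵥ o.vec (rep (o.point hF (o.vec 1))) ≠ 0 := fun h0 => by
    have h3 := o.rep_aniso hF hlt'
    rw [← su_aniso ⟨_, hmem⟩] at h3
    exact h3 (by rw [show ((⟨_, hmem⟩ : Cfsg.SU 4 F 2).1.1 : Matrix (Fin 4) (Fin 4) F) = M from rfl, h0]; simp [Cfsg.hermForm])
  obtain ⟨-, ⟨d, hd, hdv⟩, -⟩ := o.point_spec hF hMne
  rw [h1] at hdv
  have h4 : M *ᵥ o.vec 1 = d • o.vec 1 := by
    conv_lhs => rw [hcv, Matrix.mulVec_smul, hdv, smul_comm, ← hcv]
  have := congrFun h4 1
  simp [M, Omega4.vec, get, Omega4.val, Matrix.mulVec, dotProduct, Fin.sum_univ_four] at this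

end Unitary

/-! ### The field of three elements -/

section Symplectic

variable {K : Type v} [Field K] [Fintype K]

local notation "SpK" => Matrix.symplecticGroup (Fin 2) K

theorem charP_three (hK : Fintype.card K = 3) : CharP K 3 := by
  haveI : Fact (Nat.Prime 3) := ⟨Nat.prime_three⟩
  exact charP_of_card_eq_prime hK

/-- The vector with a given code. -/
def vecK (K : Type v) [Field K] (x : ℕ) : Fin 2 ⊕ Fin 2 → K :=
  Sum.elim (fun i => (getK x i.1 : K)) fun i => (getK x (2 + i.1) : K)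

variable (hK : Fintype.card K = 3)
include hK

theorem exists_codeK (x : K) : ∃ a : ℕ, a < 3 ∧ (a : K) = x := by
  haveI := charP_three hK
  let g : Fin 3 → K := fun a => (a.1 : K)
  have hb : Function.Bijective g := (Fintype.bijective_iff_injective_and_card g).2
    ⟨fun a b h => Fin.ext (CharP.natCast_injOn_Iio K 3 a.2 b.2 h), by rw [Fintype.card_fin, hK]⟩
  obtain ⟨a, ha⟩ := hb.2 x
  exact ⟨a.1, a.2, ha⟩

theorem natCast_mod_three (n : ℕ) : ((n % 3 : ℕ) : K) = n := by
  haveI := charP_three hK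
  rw [CharP.natCast_eq_natCast K 3]
  exact Nat.mod_modEq n 3

/-- The code of a vector. -/
noncomputable def encK (v : Fin 2 ⊕ Fin 2 → K) : ℕ :=
  codeK (exists_codeK hK (v (.inl 0))).choose (exists_codeK hK (v (.inl 1))).choose
    (exists_codeK hK (v (.inr 0))).choose (exists_codeK hK (v (.inr 1))).choose

theorem encK_lt (v : Fin 2 ⊕ Fin 2 → K) : encK hK v < 81 :=
  codeK_lt (exists_codeK hK (v (.inl 0))).choose_spec.1 (exists_codeK hK (v (.inl 1))).choose_spec.1
    (exists_codeK hK (v (.inr 0))).choose_spec.1 (exists_codeK hK (v (.inr 1))).choose_spec.1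

theorem vecK_encK (v : Fin 2 ⊕ Fin 2 → K) : vecK K (encK hK v) = v := by
  obtain ⟨e0, e1, e2, e3⟩ := getK_codeK (exists_codeK hK (v (.inl 0))).choose_spec.1
    (exists_codeK hK (v (.inl 1))).choose_spec.1 (exists_codeK hK (v (.inr 0))).choose_spec.1
    (exists_codeK hK (v (.inr 1))).choose_spec.1
  funext i
  rcases i with i | i <;> fin_cases i <;> simp [vecK, encK, e0, e1, e2, e3]
  · exact (exists_codeK hK (v (.inl 0))).choose_spec.2
  · exact (exists_codeK hK (v (.inl 1))).choose_spec.2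
  · exact (exists_codeK hK (v (.inr 0))).choose_spec.2
  · exact (exists_codeK hK (v (.inr 1))).choose_spec.2

theorem encK_vecK {x : ℕ} (hx : x < 81) : encK hK (vecK K x) = x := by
  haveI := charP_three hK
  have h : ∀ (j : Fin 2 ⊕ Fin 2) (n : ℕ), vecK K x j = (getK x n : K) →
      (exists_codeK hK (vecK K x j)).choose = getK x n := fun j n hj =>
    CharP.natCast_injOn_Iio K 3 (exists_codeK hK (vecK K x j)).choose_spec.1 (getK_lt _ _)
      ((exists_codeK hK (vecK K x j)).choose_spec.2.trans hj)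
  rw [encK, h (.inl 0) 0 rfl, h (.inl 1) 1 rfl, h (.inr 0) 2 rfl, h (.inr 1) 3 rfl]
  exact codeK_getK hx

theorem vecK_smulK (l x : ℕ) : vecK K (smulK l x) = (l : K) • vecK K x := by
  obtain ⟨e0, e1, e2, e3⟩ := getK_codeK (Nat.mod_lt (l * getK x 0) three_pos) (Nat.mod_lt (l * getK x 1) three_pos)
    (Nat.mod_lt (l * getK x 2) three_pos) (Nat.mod_lt (l * getK x 3) three_pos)
  funext i
  rcases i with i | i <;> fin_cases i <;>
    simp [vecK, smulK, e0, e1, e2, e3, natCast_mod_three hK]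

theorem vecK_zero : (vecK K 0 : Fin 2 ⊕ Fin 2 → K) = 0 := by
  funext i; rcases i with i | i <;> simp [vecK, getK]

theorem encK_ne_zero {v : Fin 2 ⊕ Fin 2 → K} (hv : v ≠ 0) : encK hK v ≠ 0 := fun h => hv <| by
  rw [← vecK_encK hK v, h, vecK_zero hK]

/-- The number of the point spanned by a vector. -/
noncomputable def pointK (v : Fin 2 ⊕ Fin 2 → K) : ℕ := idk (encK hK v)

theorem pointK_smul {v : Fin 2 ⊕ Fin 2 → K} (hv : v ≠ 0) {c : K} (hc : c ≠ 0) :
    pointK hK (c • v) = pointK hK v := by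
  obtain ⟨l, hl, rfl⟩ := exists_codeK hK c
  obtain ⟨-, -, -, h1, h2⟩ := vecK_spec (encK_lt hK v) (encK_ne_zero hK hv)
  have e : encK hK ((l : K) • v) = smulK l (encK hK v) := by
    conv_lhs => rw [← vecK_encK hK v, ← vecK_smulK hK]
    exact encK_vecK hK (codeK_lt (Nat.mod_lt _ three_pos) (Nat.mod_lt _ three_pos) (Nat.mod_lt _ three_pos)
      (Nat.mod_lt _ three_pos))
  rw [pointK, e]
  interval_cases l
  · simp at hc
  · exact h1
  · exact h2

theorem pointK_spec {v : Fin 2 ⊕ Fin 2 → K} (hv : v ≠ 0) :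
    pointK hK v < 40 ∧ ∃ c : K, c ≠ 0 ∧ v = c • vecK K (repk (pointK hK v)) := by
  obtain ⟨h1, h2, h3, -, -⟩ := vecK_spec (encK_lt hK v) (encK_ne_zero hK hv)
  refine ⟨h2, (sgn (encK hK v) : K), fun h => h1 ?_, ?_⟩
  · haveI := charP_three hK
    have := (CharP.cast_eq_zero_iff K 3 _).1 h
    omega
  · rw [← vecK_smulK hK]
    show v = vecK K (smulK _ (repk (idk (encK hK v))))
    rw [h3, vecK_encK]

theorem repk_ne_zero {j : ℕ} (hj : j < 40) : vecK K (repk j) ≠ 0 := fun h => (repK_spec hj).2.1 <| by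
  rw [← encK_vecK hK (repK_spec hj).2.2, h, ← vecK_zero hK, encK_vecK hK (by norm_num)]

theorem pointK_rep {j : ℕ} (hj : j < 40) : pointK hK (vecK K (repk j)) = j := by
  rw [pointK, encK_vecK hK (repK_spec hj).2.2, (repK_spec hj).1]

theorem sp_smul_ne_zero (s : SpK) {v : Fin 2 ⊕ Fin 2 → K} (hv : v ≠ 0) : s • v ≠ 0 := fun h =>
  hv (by simpa using congrArg (s⁻¹ • ·) h)

/-- The action of the symplectic group on the points. -/
noncomputable def actK (s : Matrix.symplecticGroup (Fin 2) K) (i : Fin 40) : Fin 40 :=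
  ⟨pointK hK (s • vecK K (repk i)), (pointK_spec hK (sp_smul_ne_zero hK s (repk_ne_zero hK i.2))).1⟩

theorem actK_mul (s t : SpK) (i : Fin 40) : actK hK (s * t) i = actK hK s (actK hK t i) := by
  refine Fin.ext ?_
  show pointK hK ((s * t) • _) = pointK hK (s • vecK K (repk (pointK hK (t • _))))
  obtain ⟨hlt, c, hc, hcv⟩ := pointK_spec hK (sp_smul_ne_zero hK t (repk_ne_zero hK i.2))
  rw [mul_smul]
  conv_lhs => rw [hcv, smul_comm]
  exact pointK_smul hK (sp_smul_ne_zero hK s (repk_ne_zero hK hlt)) hc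

theorem actK_one (i : Fin 40) : actK hK (1 : SpK) i = i := by
  refine Fin.ext ?_
  show pointK hK ((1 : SpK) • vecK K (repk i)) = i
  rw [one_smul, pointK_rep hK i.2]

/-- The permutation representation of `Sp_4(3)`. -/
noncomputable def permK : Matrix.symplecticGroup (Fin 2) K →* Equiv.Perm (Fin 40) :=
  MonoidHom.mk' (fun s => ⟨actK hK s, actK hK s⁻¹,
      fun i => by rw [← actK_mul, inv_mul_cancel, actK_one],
      fun i => by rw [← actK_mul, mul_inv_cancel, actK_one]⟩)
    fun s t => Equiv.ext fun i => actK_mul hK s t i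

theorem permK_ker : (permK hK).ker = Subgroup.center SpK := by
  ext s
  constructor
  · intro h
    refine mem_center_of_eq_or_neg (eq_one_or_neg_of_forall_smul (by norm_num) fun v => ?_)
    by_cases hv : v = 0
    · exact ⟨1, by rw [hv, smul_zero, smul_zero]⟩
    obtain ⟨hlt, c, hc, hcv⟩ := pointK_spec hK hv
    have h1 : pointK hK (s • vecK K (repk (pointK hK v))) = pointK hK v :=
      congrArg (fun π : Equiv.Perm (Fin 40) => ((π ⟨_, hlt⟩ : Fin 40) : ℕ)) (MonoidHom.mem_ker.1 h)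
    obtain ⟨-, d, hd, hdv⟩ := pointK_spec hK (sp_smul_ne_zero hK s (repk_ne_zero hK hlt))
    rw [h1] at hdv
    refine ⟨d, ?_⟩
    conv_lhs => rw [hcv, smul_comm s c, hdv, smul_comm c d, ← hcv]
  · intro h
    refine MonoidHom.mem_ker.2 (Equiv.ext fun i => Fin.ext ?_)
    show pointK hK (s • vecK K (repk i)) = i
    rcases (mem_center_sp_iff (by norm_num)).1 h with h1 | h1
    · rw [sp_smul_eq, h1, Matrix.one_mulVec, pointK_rep hK i.2]
    · rw [sp_smul_eq, h1, Matrix.neg_mulVec, Matrix.one_mulVec, ← neg_one_smul K,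
        pointK_smul hK (repk_ne_zero hK i.2) (neg_ne_zero.2 one_ne_zero), pointK_rep hK i.2]

/-- Coordinates as numbers below four. -/
def pos : Fin 2 ⊕ Fin 2 → ℕ := Sum.elim (fun i => i.1) fun i => 2 + i.1

/-- The tabulated matrices. -/
def matK (K : Type v) [Field K] (k : ℕ) : Matrix (Fin 2 ⊕ Fin 2) (Fin 2 ⊕ Fin 2) K :=
  Matrix.of fun r c => (entry k (pos r) (pos c) : K)

theorem matK_mem {k : ℕ} (hk : k < 45) : matK K k ∈ SpK := by
  haveI := charP_three hK
  refine SymplecticGroup.mem_iff'.2 (Matrix.ext fun i j => ?_)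
  have hpos : ∀ i, pos i < 4 := fun i => by
    rcases i with i | i <;> simp [pos] <;> omega
  have h := congrArg (fun n : ℕ => (n : K)) (gram_spec hk (hpos i) (hpos j))
  simp only [gram, natCast_mod_three hK] at h
  push_cast at h
  have h3 : (3 : K) = 0 := by exact_mod_cast CharP.cast_eq_zero K 3
  have e : (Matrix.J (Fin 2) K) i j = (stdGram (pos i) (pos j) : K) := by
    rcases i with i | i <;> rcases j with j | j <;> fin_cases i <;> fin_cases j <;>
      simp [Matrix.J, pos, stdGram] <;> linear_combination -h3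
  rw [e, ← h]
  simp [Matrix.mul_apply, Fintype.sum_sum_type, Fin.sum_univ_two, Matrix.J, matK, Matrix.one_apply]
  simp only [show pos (.inl 0) = 0 from rfl, show pos (.inl 1) = 1 from rfl, show pos (.inr 0) = 2 from rfl,
    show pos (.inr 1) = 3 from rfl]
  linear_combination -((entry k 0 (pos i) : K) * entry k 2 (pos j) +
    (entry k 1 (pos i) : K) * entry k 3 (pos j)) * h3

theorem permK_matK {k : ℕ} (hk : k < 45) (i : Fin 40) :
    ((permK hK ⟨_, matK_mem hK hk⟩ i : Fin 40) : ℕ) = idk (mulK k (repk i)) := by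
  show pointK hK ((⟨_, matK_mem hK hk⟩ : SpK) • vecK K (repk i)) = _
  have e : (⟨_, matK_mem hK hk⟩ : SpK) • vecK K (repk i) = vecK K (mulK k (repk i)) := by
    obtain ⟨e0, e1, e2, e3⟩ := getK_codeK
      (a := rowK k 0 (repk i)) (b := rowK k 1 (repk i)) (c := rowK k 2 (repk i)) (d := rowK k 3 (repk i))
      (Nat.mod_lt _ three_pos) (Nat.mod_lt _ three_pos) (Nat.mod_lt _ three_pos) (Nat.mod_lt _ three_pos)
    rw [sp_smul_eq]
    funext r
    rw [mulK]
    rcases r with r | r <;> fin_cases r <;>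
      simp [vecK, e0, e1, e2, e3, Matrix.mulVec, dotProduct, Fintype.sum_sum_type, Fin.sum_univ_two, matK, pos] <;>
      simp [rowK, natCast_mod_three hK] <;> ring
  rw [e, pointK, encK_vecK hK (x := mulK k (repk i)) (codeK_lt (Nat.mod_lt _ three_pos)
    (Nat.mod_lt _ three_pos) (Nat.mod_lt _ three_pos) (Nat.mod_lt _ three_pos))]

end Symplectic

/-- `PSU_4(2) ≅ PSp_4(3)`. -/
theorem nonempty_psu_equiv_psp {F : Type u} {K : Type v} [Field F] [Fintype F] [Field K] [Fintype K]
    (hF : Fintype.card F = 4) (hK : Fintype.card K = 3) : Nonempty (Cfsg.PSU 4 F 2 ≃* Cfsg.PSp 2 K) := by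
  classical
  obtain ⟨o⟩ := exists_omega4 hF
  have hF2 : Fintype.card F = 2 ^ 2 := by rw [hF]; norm_num
  have hFn : Nat.card F = 2 ^ 2 := by rw [Nat.card_eq_fintype_card, hF2]
  set φ := o.perm hF
  set ψ := permK hK
  -- the image lies in the symplectic image
  have hle : φ.range ≤ ψ.range := by
    have hgen := Cfsg.Agent.S0780.result hF2 4 (by norm_num) (by norm_num)
    rw [MonoidHom.range_eq_map, ← hgen, MonoidHom.map_closure, Subgroup.closure_le]
    rintro _ ⟨A, ⟨v, c, hv, hA⟩, rfl⟩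
    rcases o.transvection_perm hF A v c hv hA with h | ⟨k, hk, h⟩
    · rw [SetLike.mem_coe, h]; exact one_mem _
    · exact ⟨⟨_, matK_mem hK hk⟩, Equiv.ext fun i => Fin.ext
        ((permK_matK hK hk i).trans ((perm_spec hk i.2).symm.trans (h i).symm))⟩
  have hbot : Subgroup.center (Cfsg.SU 4 F 2) = ⊥ := by
    rw [Subgroup.eq_bot_iff_card, CfsgLib.ClassicalForms.card_center_su hFn (by norm_num)]
    norm_num
  let e : Cfsg.PSU 4 F 2 ≃* Cfsg.SU 4 F 2 :=
    (QuotientGroup.quotientMulEquivOfEq hbot).trans QuotientGroup.quotientBot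
  haveI := CfsgLib.ClassicalForms.isSimpleGroup_psu (n := 4) (q := 2) hF2 (by norm_num) (by norm_num)
  let χ : Cfsg.PSU 4 F 2 →* ψ.range :=
    ((φ.codRestrict ψ.range fun s => hle ⟨s, rfl⟩)).comp e.toMonoidHom
  have hinj : Function.Injective χ := by
    rcases IsSimpleGroup.eq_bot_or_eq_top_of_normal χ.ker inferInstance with h | h
    · exact (MonoidHom.ker_eq_bot_iff χ).1 h
    · exfalso
      obtain ⟨s, hs⟩ := o.perm_ne_one hF
      have h1 : e.symm s ∈ χ.ker := h ▸ Subgroup.mem_top _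
      apply hs
      have h2 := congrArg Subtype.val (MonoidHom.mem_ker.1 h1)
      simpa [χ] using h2
  let η : Cfsg.PSp 2 K ≃* ψ.range :=
    (QuotientGroup.quotientMulEquivOfEq (permK_ker hK).symm).trans (QuotientGroup.quotientKerEquivRange ψ)
  have h1 : Nat.card (Cfsg.PSU 4 F 2) = 25920 := by
    have h := CfsgLib.ClassicalForms.card_psu_mul hFn (n := 4) (by norm_num)
    rw [CfsgLib.ClassicalForms.card_gu hFn] at h
    simp [Finset.prod_range_succ] at h
    rw [if_neg (by decide)] at h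
    rw [Nat.card_eq_fintype_card]
    omega
  have h2 : Nat.card (Cfsg.PSp 2 K) = 25920 := by
    have h := Subgroup.card_eq_card_quotient_mul_card_subgroup
      (Subgroup.center (Matrix.symplecticGroup (Fin 2) K))
    rw [card_sp, card_center_sp (by norm_num), hK] at h
    simp [Finset.prod_range_succ] at h
    show Nat.card (Matrix.symplecticGroup (Fin 2) K ⧸ Subgroup.center _) = _
    rw [Nat.card_eq_fintype_card]
    omega
  have hbij : Function.Bijective χ :=
    hinj.bijective_of_nat_card_le (by rw [← Nat.card_congr η.toEquiv, h2, h1])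
  exact ⟨(MulEquiv.ofBijective χ hbij).trans η.symm⟩

end CfsgLib.Parabolic.UFourTwo
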