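import Mathlib.Data.Nat.Bitwise
import Mathlib.Tactic.Common

/-!
# Tables for `PSU_4(2) ≅ PSp_4(3)`

Vectors of `GF(4)^4` are coded by numbers below `256`, two bits per coordinate; vectors of `GF(3)^4`
by numbers below `81`. The tables list representatives of the 40 anisotropic and 45 isotropic points,
of the 40 points of the symplectic space, and for each transvection a symplectic matrix inducing the
same permutation of the 40 points.
-/

set_option autoImplicit false

namespace CfsgLib.Parabolic.UFourTwo

def mulTab : Nat := 0x9c78e400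
def idxTab : Nat := 0x711aa0398f2507854200b1a44aa87d0e889a4e63849135e88263892977267069efe20a8b4dd0520507aa2c7522b445cf2c388cc2d62c998075169859cee486893df8a1e40a2a810a80ba8e23039531e072a348a87b22688a2fa1898f49c84244c72930711ad4858eab3c88bac66c5900731e9049af64088745f091c489a97f1278aa6ea2859339d86283c82a792a607a10210b8d51c0322546a82e7912c4660e2d3a90b2b64cd88032813ae4a690af3e98db068d5b01367d3304e6502e4294d2f6cd1a8134852af4c6cfb0409ccae6ad9a016f0658296de082832db821830600
def lamTab : Nat := 0xe7e6e5e7e7e6e5e6e7e6e5e5e7e6e5e7e7e6e5e7e7e6e5e6e7e6e5e5e7e6e5e6e7e6e5e7e7e6e5e6e7e6e5e5e7e6e5e5e7e6e5e7e7e6e5e6e7e6e5e5e7e6e5e4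
def repTab : Nat := 0xfdbd7dedad6ddd9d5d0df9b979e9a969d9995909f5b575e5a565d5955505312111c18141342414c48444d090503d2d1dcd8d4d392919c98949352515c58545f1b171e1a161d1915101f4b474e4a464d49454041040
def idkTab : Nat := 0x751c48b89f94229191521d8273043973c56219802157512a49e030b4a25077257c214f60e1179a10064de4098da6c12508d319e6da043356343599640
def sgnTab : Nat := 0x269669a59669669a59a69659a59669669a5966964
def repkTab : Nat := 0x80de4b02b2ce2e4a3212726280b93c0da4f32ae31044f43bf98c4b435035d1f089049b
def matTab : Nat := 0xa15829498050294192542945a01028498010284190102845a2942a4980902a4191982a458118080180101881a01018899010188580501981a25419899158198580901a81a1981a8992941a858214080121481188104011840244118010402144224421480148214011082044210820480108204080100801a2140809a1180809a010080982540901815809018050090191180805921408059010080581980a0182940a0180900a01124401041148010410400104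

/-- Multiplication of `GF(4) = {0, 1, ω, ω²}`. -/
def mul4 (a b : Nat) : Nat := (mulTab >>> (2 * (4 * a + b))) &&& 3

/-- A coordinate of a coded vector. -/
def get (x i : Nat) : Nat := (x >>> (2 * i)) &&& 3

def code4 (a b c d : Nat) : Nat := a + 4 * b + 16 * c + 64 * d

def smul4 (l x : Nat) : Nat :=
  code4 (mul4 l (get x 0)) (mul4 l (get x 1)) (mul4 l (get x 2)) (mul4 l (get x 3))

def term4 (x y i : Nat) : Nat := mul4 (get x i) (mul4 (get y i) (get y i))

/-- The Hermitian form. -/
def herm4 (x y : Nat) : Nat := term4 x y 0 ^^^ term4 x y 1 ^^^ term4 x y 2 ^^^ term4 x y 3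

def idx (x : Nat) : Nat := (idxTab >>> (7 * x)) &&& 127

def lam (x : Nat) : Nat := (lamTab >>> (2 * x)) &&& 3

def rep (j : Nat) : Nat := (repTab >>> (8 * j)) &&& 255

/-- A coordinate of a coded vector over `GF(3)`. -/
def getK (x i : Nat) : Nat := x / 3 ^ i % 3

def codeK (a b c d : Nat) : Nat := a + 3 * b + 9 * c + 27 * d

def smulK (l x : Nat) : Nat :=
  codeK (l * getK x 0 % 3) (l * getK x 1 % 3) (l * getK x 2 % 3) (l * getK x 3 % 3)

def idk (x : Nat) : Nat := (idkTab >>> (6 * x)) &&& 63

def sgn (x : Nat) : Nat := (sgnTab >>> (2 * x)) &&& 3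

def repk (j : Nat) : Nat := (repkTab >>> (7 * j)) &&& 127

def entry (k r c : Nat) : Nat := (matTab >>> (2 * (16 * k + 4 * r + c))) &&& 3

def rowK (k r x : Nat) : Nat :=
  (entry k r 0 * getK x 0 + entry k r 1 * getK x 1 + entry k r 2 * getK x 2 + entry k r 3 * getK x 3) % 3

def mulK (k x : Nat) : Nat := codeK (rowK k 0 x) (rowK k 1 x) (rowK k 2 x) (rowK k 3 x)

/-- The entries of `Mᵀ J M`, shifted to be non-negative. -/
def gram (k i j : Nat) : Nat :=
  (entry k 2 i * entry k 0 j + entry k 3 i * entry k 1 j +
    2 * (entry k 0 i * entry k 2 j + entry k 1 i * entry k 3 j)) % 3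

def stdGram (i j : Nat) : Nat := if i = j + 2 then 1 else if j = i + 2 then 2 else 0

/-- The image of the point `i` under the `k`-th transvection. -/
def tPerm (k i : Nat) : Nat :=
  idx (rep i ^^^ smul4 (herm4 (rep i) (rep (40 + k))) (rep (40 + k)))

theorem check_vec : (List.range 256).all (fun x => x == 0 ||
    (lam x != 0 && Nat.blt (idx x) 85 && smul4 (lam x) (rep (idx x)) == x &&
      (Nat.blt (idx x) 40 == (herm4 x x != 0)))) = true := by decide +kernel

theorem check_scale : (List.range 256).all (fun x => x == 0 ||
    (idx (smul4 1 x) == idx x && idx (smul4 2 x) == idx x && idx (smul4 3 x) == idx x)) = true := by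
  decide +kernel

theorem check_rep : (List.range 85).all (fun j => idx (rep j) == j && rep j != 0) = true := by decide +kernel

theorem check_vecK : (List.range 81).all (fun x => x == 0 ||
    (sgn x != 0 && Nat.blt (idk x) 40 && smulK (sgn x) (repk (idk x)) == x &&
      idk (smulK 1 x) == idk x && idk (smulK 2 x) == idk x)) = true := by decide +kernel

theorem check_repK : (List.range 40).all (fun j => idk (repk j) == j && repk j != 0 && Nat.blt (repk j) 81) = true := by
  decide +kernel

theorem check_sp : (List.range 45).all (fun k => (List.range 4).all fun i => (List.range 4).all fun j =>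
    gram k i j == stdGram i j) = true := by decide +kernel

theorem check_perm : (List.range 45).all (fun k => (List.range 40).all fun i =>
    tPerm k i == idk (mulK k (repk i))) = true := by decide +kernel

end CfsgLib.Parabolic.UFourTwo
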